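import Mathlib.RingTheory.Derivation.MapCoeffs
import Mathlib.RingTheory.Derivation.Basic
import Mathlib.Algebra.CharP.Lemmas
import Mathlib.Algebra.CharP.Algebra
import Mathlib.Algebra.Polynomial.Eval.SMul
import Mathlib.Tactic.LinearCombination
import Mathlib.Data.Nat.Choose.Dvd
import Mathlib.Data.Nat.Prime.Factorial

/-!
# Iterates of derivations: Leibniz formula and Hochschild's identity
-/

universe u v

open Finset

namespace Groth.Agent.Hoch95

variable {B : Type u} [CommRing B]

theorem iterate_leibniz {R : Type v} [CommRing R] [Algebra R B] (D : Derivation R B B) (n : ℕ) (a b : B) :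
    (⇑D)^[n] (a * b) =
      ∑ ij ∈ antidiagonal n, n.choose ij.1 • ((⇑D)^[ij.1] a * (⇑D)^[ij.2] b) := by
  induction n with
  | zero => simp
  | succ n ih =>
    rw [Function.iterate_succ_apply', ih, map_sum]
    simp only [map_nsmul, Derivation.leibniz, smul_eq_mul, smul_add, sum_add_distrib,
      ← Function.iterate_succ_apply']
    rw [Finset.sum_antidiagonal_choose_succ_nsmul
      (fun i j => (⇑D)^[i] a * (⇑D)^[j] b) n]
    congr 1
    exact sum_congr rfl fun ij hij => by
      rw [mul_comm, Nat.choose_symm_of_eq_add (mem_antidiagonal.1 hij).symm]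

theorem iterate_prime_leibniz {R : Type v} [CommRing R] [Algebra R B] (p : ℕ) [Fact p.Prime] [CharP B p]
    (D : Derivation R B B) (a b : B) :
    (⇑D)^[p] (a * b) = a * (⇑D)^[p] b + b * (⇑D)^[p] a := by
  have hp : p.Prime := Fact.out
  rw [iterate_leibniz, Finset.sum_eq_add (0, p) (p, 0)]
  · simp [mul_comm]
  · simp [Ne.symm hp.ne_zero]
  · intro ij hij hne
    rw [mem_antidiagonal] at hij
    rw [nsmul_eq_mul, (CharP.cast_eq_zero_iff B p _).2, zero_mul]
    refine hp.dvd_choose_self (fun h => hne.1 ?_) ?_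
    · ext <;> simp only at * <;> omega
    · by_contra h
      exact hne.2 (by ext <;> simp only at * <;> omega)
  · simp
  · simp

/-- The `p`-th iterate of a derivation in characteristic `p`. -/
theorem exists_iterPow {R : Type v} [CommRing R] [Algebra R B] (p : ℕ) [Fact p.Prime] [CharP B p]
    (D : Derivation R B B) :
    ∃ Dp : Derivation R B B, ∀ b, Dp b = (⇑D)^[p] b := by
  refine ⟨Derivation.mk' ((D : B →ₗ[R] B) ^ p) (fun a b => ?_), fun b => ?_⟩
  · simp only [Module.End.pow_apply, smul_eq_mul]
    exact iterate_prime_leibniz p D a b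
  · show ((D : B →ₗ[R] B) ^ p) b = _
    rw [Module.End.pow_apply]; rfl

/-- The coefficients of `(f N)^k` in terms of the powers of `N`. -/
def coef (D : Derivation ℤ B B) (f : B) : ℕ → ℕ → B
  | 0, 0 => 1
  | 0, _ + 1 => 0
  | k + 1, 0 => f * D (coef D f k 0)
  | k + 1, j + 1 => f * (D (coef D f k (j + 1)) + coef D f k j)

theorem coef_eq_zero (D : Derivation ℤ B B) (f : B) :
    ∀ k j, k < j → coef D f k j = 0
  | 0, j + 1, _ => rfl
  | k + 1, j + 1, h => by
    rw [coef, coef_eq_zero D f k (j + 1) (by omega), coef_eq_zero D f k j (by omega)]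
    simp

theorem coef_zero_right (D : Derivation ℤ B B) (f : B) :
    ∀ k, coef D f (k + 1) 0 = 0
  | 0 => by simp [coef]
  | k + 1 => by rw [coef, coef_zero_right D f k]; simp

theorem coef_self (D : Derivation ℤ B B) (f : B) : ∀ k, coef D f k k = f ^ k
  | 0 => by rw [coef, pow_zero]
  | k + 1 => by
    rw [coef, coef_eq_zero D f k (k + 1) (by omega), coef_self D f k]
    simp [pow_succ']

/-- `(f N)^k = ∑_j c_{k,j} N^j` for every operator `N` satisfying the Leibniz rule for `D`. -/
theorem iterate_smul_eq {M : Type*} [AddCommGroup M] [Module B M] (D : Derivation ℤ B B) (f : B)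
    (N : M →+ M) (hN : ∀ b m, N (b • m) = b • N m + D b • m) (k : ℕ) (m : M) :
    (fun x => f • N x)^[k] m = ∑ j ∈ range (k + 1), coef D f k j • (⇑N)^[j] m := by
  induction k with
  | zero => simp [coef]
  | succ k ih =>
    rw [Function.iterate_succ_apply', ih, map_sum, smul_sum]
    rw [sum_range_succ' (fun j => coef D f (k + 1) j • (⇑N)^[j] m)]
    have hshift : ∑ j ∈ range (k + 1), (f * D (coef D f k (j + 1))) • (⇑N)^[j + 1] m +
        (f * D (coef D f k 0)) • (⇑N)^[0] m =
        ∑ j ∈ range (k + 1), (f * D (coef D f k j)) • (⇑N)^[j] m := by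
      rw [← sum_range_succ' (fun j => (f * D (coef D f k j)) • (⇑N)^[j] m), sum_range_succ,
        coef_eq_zero D f k (k + 1) (by omega), map_zero, mul_zero, zero_smul, add_zero]
    simp only [hN, smul_add, sum_add_distrib, smul_smul, coef, mul_add, add_smul,
      ← Function.iterate_succ_apply' (⇑N)]
    rw [← hshift]
    abel

theorem map_coef {B' : Type*} [CommRing B'] (φ : B →+* B') (D : Derivation ℤ B B)
    (D' : Derivation ℤ B' B') (h : ∀ b, D' (φ b) = φ (D b)) (f : B) :
    ∀ k j, coef D' (φ f) k j = φ (coef D f k j)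
  | 0, 0 => (map_one φ).symm
  | 0, _ + 1 => (map_zero φ).symm
  | k + 1, 0 => by rw [coef, coef, map_coef φ D D' h f k 0, h, map_mul]
  | k + 1, j + 1 => by
    rw [coef, coef, map_coef φ D D' h f k (j + 1), map_coef φ D D' h f k j, h, map_mul, map_add]

/-- Hochschild: in characteristic `p` the middle coefficients of `(f N)^p` vanish. -/
theorem coef_middle (p : ℕ) [Fact p.Prime] [CharP B p] (D : Derivation ℤ B B) (f : B) {j : ℕ}
    (h1 : 2 ≤ j) (h2 : j < p) : coef D f p j = 0 := by
  open Polynomial in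
  let _ : Differential B := ⟨D⟩
  let D' : Derivation ℤ B[X] B[X] := Differential.implicitDeriv 1
  have hD'C : ∀ b, D' (C b) = C (D b) := fun b => Differential.implicitDeriv_C 1 b
  have hD'X : D' X = 1 := Differential.implicitDeriv_X 1
  have hiter : ∀ m i, (⇑D')^[i] (X ^ m) = (m.descFactorial i : B[X]) * X ^ (m - i) := by
    intro m i
    induction i with
    | zero => simp
    | succ i ih =>
      rw [Function.iterate_succ_apply', ih, Derivation.leibniz, Derivation.map_natCast, smul_zero,
        add_zero, Derivation.leibniz_pow, hD'X, Nat.descFactorial_succ, smul_eq_mul, smul_eq_mul,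
        mul_one, nsmul_eq_mul, ← Nat.sub_sub]
      push_cast
      ring
  have hE : ∀ a b : B[X], (⇑(C f • D'))^[p] (a * b) =
      a * (⇑(C f • D'))^[p] b + b * (⇑(C f • D'))^[p] a :=
    iterate_prime_leibniz p (C f • D')
  have hEpow : ∀ m, ((⇑(C f • D'))^[p] (X ^ (m + 2))).coeff 0 = 0 := fun m => by
    rw [show (X : B[X]) ^ (m + 2) = X * (X * X ^ m) by ring, hE, hE]
    simp
  have hexp : ∀ a : B[X], (⇑(C f • D'))^[p] a =
      ∑ i ∈ range (p + 1), C (coef D f p i) * (⇑D')^[i] a := by
    intro a
    have h := iterate_smul_eq D' (C f) (M := B[X]) (D' : B[X] →ₗ[ℤ] B[X]).toAddMonoidHom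
      (fun b m => by simp [smul_eq_mul, mul_comm]; rfl) p a
    simp only [map_coef C D D' hD'C f, smul_eq_mul] at h
    exact h
  obtain ⟨m, rfl⟩ : ∃ m, j = m + 2 := ⟨j - 2, by omega⟩
  have h := hEpow m
  rw [hexp, finsetSum_coeff, Finset.sum_eq_single (m + 2)] at h
  · rw [hiter, Nat.sub_self, pow_zero, mul_one, coeff_C_mul, coeff_natCast_ite, if_pos rfl,
      Nat.descFactorial_self] at h
    have hu : IsUnit (((m + 2).factorial : ℕ) : B) := by
      obtain ⟨a, b, hab⟩ := (((Fact.out : p.Prime).coprime_iff_not_dvd.2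
        (fun hd => by rw [(Fact.out : p.Prime).dvd_factorial] at hd; omega)).isCoprime :
          IsCoprime (p : ℤ) ((m + 2).factorial : ℤ))
      have h3 := congrArg (fun z : ℤ => (z : B)) hab
      simp only [Int.cast_add, Int.cast_mul, Int.cast_natCast, CharP.cast_eq_zero B p, mul_zero,
        zero_add, Int.cast_one] at h3
      exact IsUnit.of_mul_eq_one (b : B) (by rw [mul_comm]; exact h3)
    exact hu.mul_left_eq_zero.1 h
  · intro i _ hi
    rw [hiter, coeff_C_mul]
    rcases lt_or_gt_of_ne hi with hlt | hgt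
    · rw [coeff_natCast_mul, coeff_X_pow, if_neg (by omega), mul_zero, mul_zero]
    · rw [Nat.descFactorial_eq_zero_iff_lt.2 hgt]
      simp
  · intro hmem
    exact absurd (mem_range.2 (by omega)) hmem

/-- Hochschild's identity. -/
theorem iterate_smul_prime {M : Type*} [AddCommGroup M] [Module B M] (p : ℕ) [Fact p.Prime] [CharP B p]
    (D : Derivation ℤ B B) (f : B) (N : M →+ M) (hN : ∀ b m, N (b • m) = b • N m + D b • m) (m : M) :
    (fun x => f • N x)^[p] m = coef D f p 1 • N m + f ^ p • (⇑N)^[p] m := by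
  have hp : p.Prime := Fact.out
  rw [iterate_smul_eq D f N hN, sum_range_succ, coef_self,
    Finset.sum_eq_single 1 (fun j hj hj1 => ?_) (fun h => absurd (mem_range.2 hp.one_lt) h),
    Function.iterate_one]
  rw [mem_range] at hj
  rcases Nat.lt_or_ge j 2 with hj2 | hj2
  · obtain rfl : j = 0 := by omega
    obtain ⟨q, rfl⟩ := Nat.exists_eq_add_one.2 hp.pos
    rw [coef_zero_right, zero_smul]
  · rw [coef_middle p D f hj2 hj, zero_smul]

end Groth.Agent.Hoch95
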